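import Cfsg.Agent.Lib.Classical.SpUnipotentCount.Tuples

/-!
# Unipotent isometries fixing a symplectic family or an isotropic tuple
-/

set_option autoImplicit false
set_option linter.unusedSectionVars false
set_option linter.style.haveILetI false
set_option linter.unusedVariables false
set_option linter.unusedSimpArgs false

open Module

namespace CfsgLib.Classical.SpUniCount

universe v
variable {F : Type*} [Field F] [Fintype F] {V : Type v} [AddCommGroup V] [Module F V]
  [FiniteDimensional F V] {B : V →ₗ[F] V →ₗ[F] F}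

/-- `g - 1` is nilpotent. -/
def IsUni (g : V ≃ₗ[F] V) : Prop := IsNilpotent ((g : V →ₗ[F] V) - 1)

instance finite_isom : Finite (isomGroup B) :=
  have : Finite V := Module.finite_of_finite F
  Finite.of_injective (fun g : isomGroup B => (g.1 : V → V))
    fun _ _ h => Subtype.ext (LinearEquiv.ext (congrFun h))

/-- Exponent of the unipotent radical fixing an isotropic tuple. -/
def fixExp : ℕ → ℕ → ℕ
  | _, 0 => 0
  | n, r + 1 => (2 * n - 1 - r) + fixExp (n - 1) r

theorem fixExp_eq : ∀ r n : ℕ, r ≤ n → 2 * fixExp n r + 3 * r * r = r + 4 * n * r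
  | 0, n, _ => by simp [fixExp]
  | r + 1, n, h => by
    obtain ⟨m, rfl⟩ : ∃ m, n = m + 1 := ⟨n - 1, by omega⟩
    have ih := fixExp_eq r m (by omega)
    rw [fixExp, show m + 1 - 1 = m by omega]
    obtain ⟨k, hk⟩ : ∃ k, 2 * (m + 1) - 1 - r = k := ⟨_, rfl⟩
    have hk' : k + r + 1 = 2 * (m + 1) := by omega
    rw [hk]
    linarith

/-- Unipotent isometries fixing a non-degenerate subspace and a family in its perpendicular space. -/
theorem card_fix_nondeg (hA : B.IsAlt) {W : Submodule F V} (h : NondegOn B W) {r : ℕ}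
    (e : Fin r → perp B W) :
    Nat.card {g : isomGroup B // IsUni g.1 ∧ (∀ w ∈ W, g.1 w = w) ∧ ∀ i, g.1 (e i : V) = e i} =
      Nat.card {g : isomGroup (restrictForm B (perp B W)) // IsUni g.1 ∧ ∀ i, g.1 (e i) = e i} := by
  have hiff : ∀ g : isomGroup (restrictForm B (perp B W)), IsUni (perpIncl hA h g).1 ↔ IsUni g.1 := by
    intro g
    have key : ∀ (k : ℕ) (u : perp B W), ((((perpIncl hA h g).1 : V →ₗ[F] V) - 1) ^ k) (u : V) =
        (((g.1 : perp B W →ₗ[F] perp B W) - 1) ^ k) u := by
      intro k
      induction k with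
      | zero => intro u; rfl
      | succ k ih =>
        intro u
        rw [pow_succ, pow_succ, Module.End.mul_apply, Module.End.mul_apply]
        have : (((perpIncl hA h g).1 : V →ₗ[F] V) - 1) (u : V) =
            ((((g.1 : perp B W →ₗ[F] perp B W) - 1) u : perp B W) : V) := by
          simp [perpIncl_apply_right hA h g u]
        rw [this, ih]
    constructor
    · rintro ⟨k, hk⟩
      exact ⟨k, LinearMap.ext fun u => Subtype.ext (by rw [← key, hk]; rfl)⟩
    · rintro ⟨k, hk⟩
      refine ⟨k + 1, LinearMap.ext fun y => ?_⟩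
      obtain ⟨w, u, rfl⟩ := exists_add_eq h.isCompl y
      have hw : (((perpIncl hA h g).1 : V →ₗ[F] V) - 1) (w : V) = 0 := by
        simp [perpIncl_apply_left hA h g w]
      rw [map_add, key, pow_succ, pow_succ, Module.End.mul_apply, hw, map_zero, hk, zero_mul]
      simp
  symm
  refine Nat.card_eq_of_bijective (fun g => ⟨perpIncl hA h g.1, (hiff g.1).2 g.2.1,
    fun w hw => perpIncl_apply_left hA h g.1 ⟨w, hw⟩, fun i => by
      rw [perpIncl_apply_right hA h g.1 (e i), g.2.2 i]⟩) ⟨fun a b hab => ?_, fun g => ?_⟩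
  · refine Subtype.ext (perpIncl_injective hA h ?_)
    exact congrArg (fun t => t.1) hab
  · obtain ⟨k, hk⟩ := (mem_range_perpIncl hA h g.1).2 g.2.2.1
    refine ⟨⟨k, (hiff k).1 (by rw [hk]; exact g.2.1), fun i => Subtype.ext ?_⟩, Subtype.ext hk⟩
    rw [← perpIncl_apply_right hA h k (e i), hk, g.2.2.2 i]

/-- The perpendicular space of a pair of vectors. -/
abbrev pairPerp (B : V →ₗ[F] V →ₗ[F] F) (u v : V) : Submodule F V :=
  perp B (Submodule.span F ({u, v} : Set V))

section Step

variable (hA : B.IsAlt) (hN : B.Nondegenerate) {u v : V} (huv : B u v = 1)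
include hA huv

local notation "U" => pairPerp B u v

theorem memU {x : V} : x ∈ U ↔ B u x = 0 ∧ B v x = 0 := by
  rw [mem_perp_span]
  simp

/-- Projection onto the perpendicular space of the pair. -/
noncomputable def projU : V →ₗ[F] U :=
  LinearMap.codRestrict _ (LinearMap.id - (B u).smulRight v + (B v).smulRight u) fun x => by
    rw [memU hA huv]
    have hvu : B v u = -1 := by rw [alt_swap hA, huv]
    simp [hA u, hA v, huv, hvu]

theorem projU_coe (x : V) : (projU hA huv x : V) = x - B u x • v + B v x • u := rfl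

theorem projU_of_mem (x : U) : projU hA huv (x : V) = x := by
  obtain ⟨h1, h2⟩ := (memU hA huv).1 x.2
  exact Subtype.ext (by rw [projU_coe, h1, h2]; simp)

theorem projU_u : projU hA huv u = 0 := by
  refine Subtype.ext ?_
  rw [projU_coe, hA u, alt_swap hA v u, huv]
  simp

theorem projU_v : projU hA huv v = 0 := by
  refine Subtype.ext ?_
  rw [projU_coe, hA v, huv]
  simp

theorem decomp (y : V) : y = B y v • u + B u y • v + (projU hA huv y : V) := by
  rw [projU_coe, alt_swap hA v y]
  module

theorem form_decomp (y z : V) :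
    B y z = B y v * B u z - B u y * B z v + B (projU hA huv y : V) (projU hA huv z : V) := by
  have hvu : B v u = -1 := by rw [alt_swap hA, huv]
  obtain ⟨a1, a2⟩ := (memU hA huv).1 (projU hA huv y).2
  obtain ⟨b1, b2⟩ := (memU hA huv).1 (projU hA huv z).2
  have a1' := hA.isRefl _ _ a1
  have a2' := hA.isRefl _ _ a2
  conv_lhs => rw [decomp hA huv y, decomp hA huv z]
  simp only [map_add, map_smul, LinearMap.add_apply, LinearMap.smul_apply, smul_eq_mul, hA u, hA v,
    huv, hvu, b1, b2, a1', a2']
  ring

/-- The isometry determined by the image of `v` and the action on the perpendicular space. -/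
noncomputable def lift (w : V) (g : isomGroup (restrictForm B U)) : V →ₗ[F] V :=
  (B.flip v).smulRight u + (B u).smulRight w + (perp B _).subtype ∘ₗ (g.1 : U →ₗ[F] U) ∘ₗ projU hA huv
    - ((B.flip w) ∘ₗ (perp B _).subtype ∘ₗ (g.1 : U →ₗ[F] U) ∘ₗ projU hA huv).smulRight u

theorem lift_apply (w : V) (g : isomGroup (restrictForm B U)) (y : V) :
    lift hA huv w g y = B y v • u + B u y • w + (g.1 (projU hA huv y) : V) -
      B (g.1 (projU hA huv y) : V) w • u := rfl

theorem lift_isom (w : V) (hw : B u w = 1) (g : isomGroup (restrictForm B U)) (y z : V) :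
    B (lift hA huv w g y) (lift hA huv w g z) = B y z := by
  have hwu : B w u = -1 := by rw [alt_swap hA, hw]
  have key : ∀ x : U, B u (x : V) = 0 ∧ B (x : V) u = 0 := fun x =>
    ⟨((memU hA huv).1 x.2).1, hA.isRefl _ _ ((memU hA huv).1 x.2).1⟩
  have hg : B (g.1 (projU hA huv y) : V) (g.1 (projU hA huv z) : V) =
      B (projU hA huv y : V) (projU hA huv z : V) := g.2 _ _
  rw [form_decomp hA huv y z, lift_apply, lift_apply]
  simp only [map_add, map_sub, map_smul, LinearMap.add_apply, LinearMap.sub_apply, LinearMap.smul_apply,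
    smul_eq_mul, hA u, hA w, hw, hwu, (key _).1, (key _).2, hg, alt_swap hA w (g.1 _ : V)]
  ring

theorem lift_u (w : V) (g : isomGroup (restrictForm B U)) : lift hA huv w g u = u := by
  rw [lift_apply, projU_u, huv, hA u, map_zero]
  simp

theorem lift_v (w : V) (g : isomGroup (restrictForm B U)) : lift hA huv w g v = w := by
  rw [lift_apply, projU_v, huv, hA v, map_zero]
  simp

theorem lift_mem (w : V) (g : isomGroup (restrictForm B U)) (x : U) :
    lift hA huv w g (x : V) = (g.1 x : V) - B (g.1 x : V) w • u := by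
  obtain ⟨h1, h2⟩ := (memU hA huv).1 x.2
  rw [lift_apply, projU_of_mem, h1, hA.isRefl _ _ h2]
  simp

include hN

/-- The lift as an element of the isometry group. -/
noncomputable def liftG (w : V) (hw : B u w = 1) (g : isomGroup (restrictForm B U)) : isomGroup B :=
  ⟨LinearEquiv.ofInjectiveEndo (lift hA huv w g) (by
    rw [← LinearMap.ker_eq_bot, Submodule.eq_bot_iff]
    intro y hy
    refine hN.1 y fun z => ?_
    rw [← lift_isom hA huv w hw g y z, LinearMap.mem_ker.1 hy]
    simp), fun y z => lift_isom hA huv w hw g y z⟩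

theorem liftG_apply (w : V) (hw : B u w = 1) (g : isomGroup (restrictForm B U)) (y : V) :
    (liftG hA hN huv w hw g).1 y = lift hA huv w g y := rfl

omit hA hN huv in
theorem left_fixed (g : isomGroup B) (hg : g.1 u = u) (y : V) : B u (g.1 y) = B u y := by
  have := g.2 u y
  rwa [hg] at this

omit hN in
/-- The action induced on the perpendicular space. -/
noncomputable def descend (g : isomGroup B) (hg : g.1 u = u) : isomGroup (restrictForm B U) :=
  ⟨LinearEquiv.ofInjectiveEndo (projU hA huv ∘ₗ (g.1 : V →ₗ[F] V) ∘ₗ (perp B _).subtype) (by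
    rw [← LinearMap.ker_eq_bot, Submodule.eq_bot_iff]
    intro x hx
    have h0 : projU hA huv (g.1 (x : V)) = 0 := hx
    have hu : B u (g.1 (x : V)) = 0 := by
      rw [left_fixed g hg]
      exact ((memU hA huv).1 x.2).1
    have e := decomp hA huv (g.1 (x : V))
    rw [h0, hu, zero_smul, add_zero, Submodule.coe_zero, add_zero] at e
    have e2 : (x : V) = B (g.1 (x : V)) v • u := g.1.injective (by rw [map_smul, hg, ← e])
    rw [← projU_of_mem hA huv x, e2, map_smul, projU_u, smul_zero]), fun x y => by
    show B (projU hA huv (g.1 (x : V)) : V) (projU hA huv (g.1 (y : V)) : V) = B (x : V) (y : V)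
    have hu : ∀ x : U, B u (g.1 (x : V)) = 0 := fun x => by
      rw [left_fixed g hg]
      exact ((memU hA huv).1 x.2).1
    have := form_decomp hA huv (g.1 (x : V)) (g.1 (y : V))
    rw [isomGroup_apply, hu, hu, mul_zero, zero_mul, sub_zero, zero_add] at this
    exact this.symm⟩

theorem descend_apply (g : isomGroup B) (hg : g.1 u = u) (x : U) :
    (descend hA huv g hg).1 x = projU hA huv (g.1 (x : V)) := rfl

theorem descend_liftG (w : V) (hw : B u w = 1) (g : isomGroup (restrictForm B U))
    (hg : (liftG hA hN huv w hw g).1 u = u) : descend hA huv (liftG hA hN huv w hw g) hg = g := by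
  refine Subtype.ext (LinearEquiv.ext fun x => ?_)
  rw [descend_apply hA hN huv, liftG_apply, lift_mem, map_sub, map_smul, projU_u, smul_zero, sub_zero, projU_of_mem]

theorem apply_mem (g : isomGroup B) (hg : g.1 u = u) (x : U) :
    g.1 (x : V) = ((descend hA huv g hg).1 x : V) -
      B ((descend hA huv g hg).1 x : V) (g.1 v) • u := by
  set z := g.1 (x : V) with hz
  have hu : B u z = 0 := by
    rw [hz, left_fixed g hg]
    exact ((memU hA huv).1 x.2).1
  have e := decomp hA huv z
  rw [hu, zero_smul, add_zero] at e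
  have hv0 : B (x : V) v = 0 := hA.isRefl _ _ ((memU hA huv).1 x.2).2
  have hd : (descend hA huv g hg).1 x = projU hA huv z := rfl
  have h1 : B u (g.1 v) = 1 := by rw [left_fixed g hg, huv]
  have h2 : B z (g.1 v) = 0 := by rw [hz, isomGroup_apply, hv0]
  rw [e, map_add, LinearMap.add_apply, map_smul, LinearMap.smul_apply, smul_eq_mul, h1, mul_one] at h2
  rw [hd, sub_eq_add_neg, ← neg_smul, ← eq_neg_of_add_eq_zero_left h2, add_comm]
  exact e

theorem liftG_descend (g : isomGroup B) (hg : g.1 u = u) :
    liftG hA hN huv (g.1 v) (by rw [left_fixed g hg, huv]) (descend hA huv g hg) = g := by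
  refine Subtype.ext (LinearEquiv.ext fun y => ?_)
  conv_rhs => rw [decomp hA huv y, map_add, map_add, map_smul, map_smul, hg,
    apply_mem hA hN huv g hg (projU hA huv y)]
  rw [liftG_apply, lift_apply]
  abel

theorem isUni_iff (g : isomGroup B) (hg : g.1 u = u) : IsUni g.1 ↔ IsUni (descend hA huv g hg).1 := by
  set N : V →ₗ[F] V := (g.1 : V →ₗ[F] V) - 1 with hNdef
  set d := descend hA huv g hg with hd
  set M : U →ₗ[F] U := (d.1 : U →ₗ[F] U) - 1 with hM
  have hNu : N u = 0 := by simp [hNdef, hg]
  have step : ∀ x : U, ∃ c : F, N (x : V) = (M x : V) + c • u := by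
    intro x
    refine ⟨-B (d.1 x : V) (g.1 v), ?_⟩
    simp only [hNdef, hM, LinearMap.sub_apply, Module.End.one_apply, LinearEquiv.coe_coe,
      apply_mem hA hN huv g hg x, Submodule.coe_sub, ← hd]
    module
  have key : ∀ (k : ℕ) (x : U), ∃ c : F, (N ^ k) (x : V) = ((M ^ k) x : V) + c • u := by
    intro k
    induction k with
    | zero => intro x; exact ⟨0, by simp⟩
    | succ k ih =>
      intro x
      obtain ⟨c, hc⟩ := ih x
      obtain ⟨c', hc'⟩ := step ((M ^ k) x)
      refine ⟨c', ?_⟩
      rw [pow_succ', pow_succ', Module.End.mul_apply, Module.End.mul_apply, hc, map_add, map_smul, hNu,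
        smul_zero, add_zero, hc']
  constructor
  · rintro ⟨k, hk⟩
    refine ⟨k, LinearMap.ext fun x => ?_⟩
    obtain ⟨c, hc⟩ := key k x
    rw [show (N ^ k) (x : V) = 0 from by rw [show N ^ k = 0 from hk]; rfl] at hc
    have := congrArg (projU hA huv) hc
    rw [map_zero, map_add, map_smul, projU_u, smul_zero, add_zero, projU_of_mem] at this
    exact this.symm
  · rintro ⟨k, hk⟩
    have hU : ∀ x : U, (N ^ (k + 1)) (x : V) = 0 := by
      intro x
      obtain ⟨c, hc⟩ := key k x
      rw [pow_succ', Module.End.mul_apply, hc, map_add, map_smul, hNu, smul_zero, add_zero,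
        show (M ^ k) x = 0 from by rw [show M ^ k = 0 from hk]; rfl, Submodule.coe_zero, map_zero]
    have hu' : ∀ j, (N ^ (j + 1)) u = 0 := fun j => by rw [pow_succ, Module.End.mul_apply, hNu, map_zero]
    have hv : (N ^ (k + 2)) v = 0 := by
      have e := decomp hA huv (N v)
      have h1 : B u (N v) = 0 := by
        show B u (g.1 v - v) = 0
        rw [map_sub, left_fixed g hg, sub_self]
      rw [h1, zero_smul, add_zero] at e
      rw [pow_succ, Module.End.mul_apply, e, map_add, map_smul, hU, hu', smul_zero, add_zero]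
    refine ⟨k + 2, LinearMap.ext fun y => ?_⟩
    rw [decomp hA huv y, map_add, map_add, map_smul, map_smul, hu' (k + 1), hv, smul_zero, smul_zero,
      zero_add, zero_add, pow_succ' N (k + 1), Module.End.mul_apply, hU, map_zero]
    rfl

end Step

theorem card_fix_iso (q0 : ℕ → ℕ) : ∀ (r n : ℕ) {V : Type v} [AddCommGroup V] [Module F V]
    [FiniteDimensional F V] {B : V →ₗ[F] V →ₗ[F] F} (_ : B.IsAlt) (_ : B.Nondegenerate)
    (_ : finrank F V = 2 * n) (_ : ∀ {V' : Type v} [AddCommGroup V'] [Module F V'] [FiniteDimensional F V']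
      (B' : V' →ₗ[F] V' →ₗ[F] F), B'.IsAlt → B'.Nondegenerate → finrank F V' = 2 * (n - r) →
        Nat.card {g : isomGroup B' // IsUni g.1} = q0 (n - r)) (e : Iso B r),
    Nat.card {g : isomGroup B // IsUni g.1 ∧ ∀ i, g.1 (e.1 i) = e.1 i} =
      Fintype.card F ^ fixExp n r * q0 (n - r) := by
  intro r
  induction r with
  | zero =>
    intro n V _ _ _ B hA hN hn hbase e
    rw [Nat.card_congr (Equiv.subtypeEquivRight fun g => and_iff_left fun i => i.elim0),
      hbase B hA hN (by simpa using hn), fixExp, pow_zero, one_mul]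
  | succ r ih =>
    intro n V _ _ _ B hA hN hn hbase e
    have : Finite V := Module.finite_of_finite F
    obtain ⟨u, hu⟩ : ∃ u, u = e.1 0 := ⟨_, rfl⟩
    obtain ⟨v, huv⟩ := alt_exists_partner hN.1 (hu ▸ e.2.1.ne_zero 0 : u ≠ 0)
    set W : Submodule F V := Submodule.span F ({u, v} : Set V)
    have hW := nondegOn_pair hA huv
    have hd := finrank_perp_pair_lt hA huv
    have he0 : ∀ i : Fin r, B u (e.1 i.succ) = 0 := fun i => hu ▸ e.2.2 0 i.succ
    have hdec : ∀ i : Fin r, e.1 i.succ = B (e.1 i.succ) v • u + (projU hA huv (e.1 i.succ) : V) := by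
      intro i
      conv_lhs => rw [decomp hA huv (e.1 i.succ), he0 i, zero_smul, add_zero]
    set x : Fin r → perp B W := fun i => projU hA huv (e.1 i.succ) with hx
    have hli : LinearIndependent F (Fin.cons u fun i => (x i : V) : Fin (r + 1) → V) := by
      rw [Fintype.linearIndependent_iff]
      intro g hg
      have h1 := Fintype.linearIndependent_iff.1 e.2.1
        (Fin.cons (g 0 + -∑ i : Fin r, g i.succ * B (e.1 i.succ) v) fun i : Fin r => g i.succ) (by
          simp only [Fin.sum_univ_succ, Fin.cons_zero, Fin.cons_succ, ← hu] at hg ⊢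
          have hterm : ∀ i : Fin r, g i.succ • e.1 i.succ =
              (g i.succ * B (e.1 i.succ) v) • u + g i.succ • (x i : V) := fun i => by
            conv_lhs => rw [hdec i, smul_add, smul_smul]
          rw [Finset.sum_congr rfl fun i _ => hterm i]
          rw [add_smul, neg_smul, Finset.sum_smul, Finset.sum_add_distrib, ← hg]
          abel)
      have hs : ∀ i : Fin r, g i.succ = 0 := fun i => by simpa using h1 i.succ
      intro i
      cases i using Fin.cases with
      | zero => simpa [hs] using h1 0
      | succ i => exact hs i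
    let x' : Iso (restrictForm B (perp B W)) r :=
      ⟨x, LinearIndependent.of_comp (perp B W).subtype (by
        have := hli.comp _ (Fin.succ_injective r)
        simpa [Function.comp_def] using this), fun i j => by
        have := form_decomp hA huv (e.1 i.succ) (e.1 j.succ)
        rw [e.2.2, he0, he0, mul_zero, zero_mul, sub_zero, zero_add] at this
        exact this.symm⟩
    have hfix : ∀ g : isomGroup B, g.1 u = u →
        ((∀ i, g.1 (e.1 i) = e.1 i) ↔ ∀ i, g.1 (x i : V) = x i) := by
      intro g hg
      have hs : ∀ i : Fin r, g.1 (e.1 i.succ) = e.1 i.succ ↔ g.1 (x i : V) = x i := fun i => by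
        conv_lhs => rw [hdec i, map_add, map_smul, hg, add_right_inj]
      refine ⟨fun h i => (hs i).1 (h _), fun h i => ?_⟩
      cases i using Fin.cases with
      | zero => rwa [← hu]
      | succ i => exact (hs i).2 (h i)
    have hfix2 : ∀ (g : isomGroup B) (hg : g.1 u = u) (i : Fin r), g.1 (x i : V) = x i ↔
        (descend hA huv g hg).1 (x i) = x i ∧ B (x i : V) (g.1 v) = 0 := by
      intro g hg i
      have e1 := apply_mem hA hN huv g hg (x i)
      constructor
      · intro h
        rw [h] at e1
        have := congrArg (projU hA huv) e1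
        rw [map_sub, map_smul, projU_u, smul_zero, sub_zero, projU_of_mem, projU_of_mem] at this
        refine ⟨this.symm, ?_⟩
        have h2 : B (x i : V) (g.1 v) = B (g.1 (x i : V)) (g.1 v) := by rw [h]
        rw [h2, isomGroup_apply]
        exact hA.isRefl _ _ ((memU hA huv).1 (x i).2).2
      · rintro ⟨h1, h2⟩
        rw [e1, h1, h2, zero_smul, sub_zero]
    set S : Submodule F V := Submodule.span F (Set.range (Fin.cons u fun i => (x i : V) : Fin (r + 1) → V))
    have equiv : {g : isomGroup B // IsUni g.1 ∧ ∀ i, g.1 (e.1 i) = e.1 i} ≃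
        {g : isomGroup (restrictForm B (perp B W)) // IsUni g.1 ∧ ∀ i, g.1 (x i) = x i} ×
          {w : V // B u w = 1 ∧ ∀ i, B (x i : V) w = 0} :=
      { toFun := fun g =>
          have hg : g.1.1 u = u := by rw [hu]; exact g.2.2 0
          (⟨descend hA huv g.1 hg, (isUni_iff hA hN huv g.1 hg).1 g.2.1,
              fun i => ((hfix2 g.1 hg i).1 ((hfix g.1 hg).1 g.2.2 i)).1⟩,
            ⟨g.1.1 v, by rw [left_fixed g.1 hg, huv],
              fun i => ((hfix2 g.1 hg i).1 ((hfix g.1 hg).1 g.2.2 i)).2⟩)
        invFun := fun p => ⟨liftG hA hN huv p.2.1 p.2.2.1 p.1.1, by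
          have hg : (liftG hA hN huv p.2.1 p.2.2.1 p.1.1).1 u = u := lift_u hA huv _ _
          refine ⟨(isUni_iff hA hN huv _ hg).2 (by rw [descend_liftG]; exact p.1.2.1),
            (hfix _ hg).2 fun i => (hfix2 _ hg i).2 ⟨by rw [descend_liftG]; exact p.1.2.2 i, ?_⟩⟩
          rw [liftG_apply, lift_v]
          exact p.2.2.2 i⟩
        left_inv := fun g => Subtype.ext (liftG_descend hA hN huv g.1 (by rw [hu]; exact g.2.2 0))
        right_inv := fun p => Prod.ext (Subtype.ext (descend_liftG hA hN huv _ p.2.2.1 _ (lift_u hA huv _ _)))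
          (Subtype.ext (lift_v hA huv _ _)) }
    have hUr : n - 1 - r = n - (r + 1) := by omega
    rw [Nat.card_congr equiv, Nat.card_prod, ih (n - 1) (restrictForm_isAlt hA _)
      (restrictForm_nondegenerate hA.isRefl (nondegOn_perp hN.2 hW)) (by omega)
      (fun B' hA' hN' hd' => by rw [hUr]; exact hbase B' hA' hN' (by rw [hd', hUr])) x']
    have hw : Nat.card {w : V // B u w = 1 ∧ ∀ i, B (x i : V) w = 0} = Fintype.card F ^ (2 * n - 1 - r) := by
      have e2 : {w : V // B u w = 1 ∧ ∀ i, B (x i : V) w = 0} ≃ perp B S :=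
        { toFun := fun w => ⟨w.1 - v, mem_perp_span.2 (by
            rintro _ ⟨i, rfl⟩
            cases i using Fin.cases with
            | zero => rw [Fin.cons_zero, map_sub, w.2.1, huv, sub_self]
            | succ i => rw [Fin.cons_succ, map_sub, w.2.2, hA.isRefl _ _ ((memU hA huv).1 (x i).2).2, sub_self])⟩
          invFun := fun z => ⟨(z : V) + v, by
            refine ⟨?_, fun i => ?_⟩
            · have := mem_perp_span.1 z.2 _ ⟨0, rfl⟩
              rw [Fin.cons_zero] at this
              rw [map_add, this, huv, zero_add]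
            · have := mem_perp_span.1 z.2 _ ⟨i.succ, rfl⟩
              rw [Fin.cons_succ] at this
              rw [map_add, this, hA.isRefl _ _ ((memU hA huv).1 (x i).2).2, zero_add]⟩
          left_inv := fun w => Subtype.ext (sub_add_cancel _ _)
          right_inv := fun z => Subtype.ext (add_sub_cancel_right _ _) }
      rw [Nat.card_congr e2, Module.natCard_eq_pow_finrank (K := F), Nat.card_eq_fintype_card,
        finrank_perp_nondeg hN, finrank_span_eq_card hli, Fintype.card_fin, hn]
      congr 1
      omega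
    rw [hw, hUr, fixExp, pow_add]
    ring

end CfsgLib.Classical.SpUniCount
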