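import Cfsg.Agent.Lib.Classical.SpUnipotentCount.Types

/-!
# A symplectic group of dimension `2n` has `q^{2n²}` unipotent elements
-/

set_option autoImplicit false
set_option linter.unusedSectionVars false
set_option linter.style.haveILetI false
set_option linter.unusedVariables false
set_option linter.unusedSimpArgs false

open Module Finset

namespace CfsgLib.Classical.SpUniCount

universe v
variable {F : Type*} [Field F] [Fintype F]

/-- The weight of a `d`-dimensional subspace. -/
def weight (q : ℚ) (d : ℕ) : ℚ := (-1) ^ d * q ^ (d.choose 2)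

section Moebius

variable {K : Type v} [AddCommGroup K] [Module F K] [FiniteDimensional F K]

instance finite_submodule : Finite (Submodule F K) :=
  have : Finite K := Module.finite_of_finite F
  Finite.of_injective (SetLike.coe : Submodule F K → Set K) SetLike.coe_injective

theorem card_subspaces {k l : ℕ} (h : finrank F K = k + l) :
    (Nat.card {W : Submodule F K // finrank F W = k} : ℚ) =
      qG (Fintype.card F : ℚ) (k + l) / (qG (Fintype.card F : ℚ) k * qG (Fintype.card F : ℚ) l) := by
  have : Finite K := Module.finite_of_finite F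
  haveI := Fintype.ofFinite {W : Submodule F K // finrank F W = k}
  let f : (Σ W : {W : Submodule F K // finrank F W = k}, {e : Fin k → W.1 // LinearIndependent F e}) →
      {e : Fin k → K // LinearIndependent F e} := fun x =>
    ⟨fun i => (x.2.1 i : K), x.2.2.map' _ (Submodule.ker_subtype _)⟩
  have hs : ∀ x, Submodule.span F (Set.range (f x).1) = x.1.1 := fun x => by
    refine Submodule.eq_of_le_of_finrank_eq (Submodule.span_le.2 (by rintro _ ⟨i, rfl⟩; exact (x.2.1 i).2)) ?_
    rw [finrank_span_eq_card (f x).2, x.1.2, Fintype.card_fin]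
  have e : {e : Fin k → K // LinearIndependent F e} ≃
      Σ W : {W : Submodule F K // finrank F W = k}, {e : Fin k → W.1 // LinearIndependent F e} := by
    refine (Equiv.ofBijective f ⟨fun x y hxy => ?_, fun e => ?_⟩).symm
    · have h1 : x.1.1 = y.1.1 := by rw [← hs x, ← hs y, hxy]
      obtain ⟨⟨W, hW⟩, e, he⟩ := x
      obtain ⟨⟨W', hW'⟩, e', he'⟩ := y
      simp only at h1
      subst h1
      have h2 : e = e' := funext fun i => Subtype.ext (congrFun (congrArg Subtype.val hxy) i)
      subst h2
      rfl
    · exact ⟨⟨⟨Submodule.span F (Set.range e.1), (finrank_span_eq_card e.2).trans (Fintype.card_fin k)⟩,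
        ⟨fun i => ⟨e.1 i, Submodule.subset_span ⟨i, rfl⟩⟩, linearIndependent_span e.2⟩⟩, rfl⟩
  have h1 := card_li (F := F) h
  rw [Nat.card_congr e, Nat.card_sigma, Nat.cast_sum,
    Finset.sum_congr rfl fun W _ => card_li (F := F) (l := 0) (show finrank F W.1 = k + 0 by rw [W.2, add_zero]),
    Finset.sum_const, Finset.card_univ, nsmul_eq_mul, ← Nat.card_eq_fintype_card, add_zero, qG_zero, div_one] at h1
  have g1 := qG_ne (one_lt_card_q (F := F)) k
  have g2 := qG_ne (one_lt_card_q (F := F)) l
  have q0 : (Fintype.card F : ℚ) ^ k.choose 2 ≠ 0 := pow_ne_zero _ (zero_lt_one.trans one_lt_card_q).ne'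
  field_simp at h1 ⊢
  linear_combination h1

/-- The weights of the subspaces of a nonzero space cancel. -/
theorem sum_weight [Fintype (Submodule F K)] (h : finrank F K ≠ 0) :
    ∑ W : Submodule F K, weight (Fintype.card F : ℚ) (finrank F W) = 0 := by
  classical
  obtain ⟨D, hD⟩ : ∃ D, finrank F K = D + 1 := ⟨_, (Nat.succ_pred_eq_of_ne_zero h).symm⟩
  set q : ℚ := (Fintype.card F : ℚ)
  rw [← sum_fiberwise_of_maps_to (s := univ) (t := antidiagonal (D + 1))
    (g := fun W : Submodule F K => (D + 1 - finrank F W, finrank F W))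
    (fun W _ => by
      rw [HasAntidiagonal.mem_antidiagonal]
      have := Submodule.finrank_le W
      omega)]
  have key : ∀ p ∈ antidiagonal (D + 1),
      ∑ W ∈ univ.filter (fun W : Submodule F K => (D + 1 - finrank F W, finrank F W) = p),
        weight q (finrank F W) =
      (-1) ^ (D + 1) * qG q (D + 1) * ((-1 : ℚ) ^ p.1 * q ^ (p.2.choose 2) / (qG q p.1 * qG q p.2)) := by
    intro p hp
    rw [HasAntidiagonal.mem_antidiagonal] at hp
    have hfilter : univ.filter (fun W : Submodule F K => (D + 1 - finrank F W, finrank F W) = p) =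
        univ.filter (fun W : Submodule F K => finrank F W = p.2) := by
      refine filter_congr fun W _ => ?_
      rw [Prod.ext_iff]
      constructor
      · exact fun h => h.2
      · exact fun h => ⟨by simp only; omega, h⟩
    rw [hfilter, sum_congr rfl (fun W hW => by rw [(mem_filter.1 hW).2]), sum_const, nsmul_eq_mul,
      ← Fintype.card_subtype, ← Nat.card_eq_fintype_card,
      card_subspaces (k := p.2) (l := p.1) (by omega), show p.2 + p.1 = D + 1 by omega, weight]
    have hs : (-1 : ℚ) ^ p.2 = (-1) ^ (D + 1) * (-1) ^ p.1 := by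
      rw [← hp, pow_add, mul_comm ((-1 : ℚ) ^ p.1), mul_assoc, ← mul_pow, neg_one_mul, neg_neg, one_pow, mul_one]
    rw [hs]
    ring
  rw [sum_congr rfl key, ← mul_sum, alt_sum_eq_zero one_lt_card_q, mul_zero]

end Moebius

variable {V : Type v} [AddCommGroup V] [Module F V] [FiniteDimensional F V] {B : V →ₗ[F] V →ₗ[F] F}

/-- The fixed space. -/
def fixSpace (g : V ≃ₗ[F] V) : Submodule F V := LinearMap.eqLocus (g : V →ₗ[F] V) LinearMap.id

theorem le_fixSpace {W : Submodule F V} {g : V ≃ₗ[F] V} : W ≤ fixSpace g ↔ ∀ w ∈ W, g w = w := Iff.rfl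

theorem fixSpace_ne_bot [Nontrivial V] {g : V ≃ₗ[F] V} (hg : IsUni g) : finrank F (fixSpace g) ≠ 0 := by
  intro h
  obtain ⟨k, hk⟩ := hg
  set N : V →ₗ[F] V := (g : V →ₗ[F] V) - 1
  have hbot : fixSpace g = ⊥ := Submodule.finrank_eq_zero.1 h
  have hinj : Function.Injective N := by
    rw [← LinearMap.ker_eq_bot, ← hbot]
    ext x
    show g x - x = 0 ↔ g x = x
    exact sub_eq_zero
  have : Function.Injective (N ^ k : V →ₗ[F] V) := by
    rw [Module.End.coe_pow]
    exact hinj.iterate k
  rw [show N ^ k = 0 from hk] at this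
  obtain ⟨x, hx⟩ := exists_ne (0 : V)
  exact hx (this (by simp))

/-- The inductive hypothesis. -/
def Count (F : Type*) [Field F] [Fintype F] (n : ℕ) : Prop :=
  ∀ (V : Type v) [AddCommGroup V] [Module F V] [FiniteDimensional F V] (B : V →ₗ[F] V →ₗ[F] F),
    B.IsAlt → B.Nondegenerate → finrank F V = 2 * n →
      Nat.card {g : isomGroup B // IsUni g.1} = Fintype.card F ^ (2 * n * n)

theorem exists_conf (hA : B.IsAlt) {W : Submodule F V} {r s : ℕ}
    (hr : finrank F (LinearMap.ker (restrictForm B W)) = r) (hd : finrank F W = r + 2 * s) :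
    ∃ c : Conf B s r, spanC c = W := by
  have h1 := card_conf_fiber hA hr hd
  have h2 := card_fam_value (F := F) (restrictForm_isAlt hA W) (s := s) (l := 0) hr (by simpa using hd)
  have h3 := card_li (F := F) (l := 0) (show finrank F (LinearMap.ker (restrictForm B W)) = r + 0 by rw [hr, add_zero])
  have hq := one_lt_card_q (F := F)
  have hpos : Nat.card {c : Conf B s r // spanC c = W} ≠ 0 := by
    rw [h1]
    intro h0
    have : (Nat.card (Fam (restrictForm B W) s) : ℚ) *
        (Nat.card {e : Fin r → LinearMap.ker (restrictForm B W) // LinearIndependent F e} : ℚ) = 0 := by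
      exact_mod_cast h0
    rw [h2, h3] at this
    simp [qP_ne hq, qG_ne hq, (zero_lt_one.trans hq).ne', Fintype.card_ne_zero] at this
  obtain ⟨⟨c, hc⟩⟩ := (Nat.card_ne_zero.1 hpos).1
  exact ⟨c, hc⟩

theorem le_of_conf (hA : B.IsAlt) (hN : B.Nondegenerate) {n r s : ℕ} (hn : finrank F V = 2 * n) (c : Conf B s r) :
    r + s ≤ n := by
  have hH := nondegOn_fam hA c.1.2
  have hd := finrank_fam hA c.1.2
  have hN' := restrictForm_nondegenerate hA.isRefl (nondegOn_perp hN.2 hH)
  set B' := restrictForm B (perp B (Submodule.span F (Set.range c.1.1)))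
  have hle : Submodule.span F (Set.range c.2.1) ≤ perp B' (Submodule.span F (Set.range c.2.1)) :=
    Submodule.span_le.2 (by
      rintro _ ⟨j, rfl⟩
      exact mem_perp_span.2 (by rintro _ ⟨i, rfl⟩; exact c.2.2.2 i j))
  have h := Submodule.finrank_mono hle
  rw [finrank_perp_nondeg hN', finrank_span_eq_card c.2.2.1, Fintype.card_fin] at h
  omega

theorem fixers (hA : B.IsAlt) (hN : B.Nondegenerate) {n r s l : ℕ} (hn : finrank F V = 2 * n)
    (hrsl : r + s + l = n) (hcount : Count.{v} F l) {W : Submodule F V}
    (hr : finrank F (LinearMap.ker (restrictForm B W)) = r) (hd : finrank F W = r + 2 * s) :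
    Nat.card {g : isomGroup B // IsUni g.1 ∧ W ≤ fixSpace g.1} =
      Fintype.card F ^ (fixExp (r + l) r + 2 * l * l) := by
  obtain ⟨c, rfl⟩ := exists_conf hA hr hd
  have hH := nondegOn_fam hA c.1.2
  have hdim := finrank_fam hA c.1.2
  have hiff : ∀ g : isomGroup B, (IsUni g.1 ∧ spanC c ≤ fixSpace g.1) ↔
      (IsUni g.1 ∧ (∀ w ∈ Submodule.span F (Set.range c.1.1), g.1 w = w) ∧ ∀ i, g.1 (c.2.1 i : V) = c.2.1 i) := by
    intro g
    refine and_congr_right fun _ => ?_
    rw [spanC, sup_le_iff, le_fixSpace]
    refine and_congr_right fun _ => ⟨fun h i => h (Submodule.subset_span ⟨i, rfl⟩), fun h => ?_⟩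
    exact Submodule.span_le.2 (by rintro _ ⟨i, rfl⟩; exact h i)
  rw [Nat.card_congr (Equiv.subtypeEquivRight hiff), card_fix_nondeg hA hH,
    card_fix_iso (fun m => Fintype.card F ^ (2 * m * m)) r (r + l) (restrictForm_isAlt hA _)
      (restrictForm_nondegenerate hA.isRefl (nondegOn_perp hN.2 hH)) (by omega)
      (fun B' hA' hN' hd' => by
        rw [show r + l - r = l by omega] at hd' ⊢
        exact hcount _ B' hA' hN' hd') c.2,
    show r + l - r = l by omega, pow_add]

theorem count_type (hA : B.IsAlt) (hN : B.Nondegenerate) {r s l : ℕ}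
    (hn : finrank F V = 2 * (r + s + l)) :
    (Nat.card {W : Submodule F V // finrank F (LinearMap.ker (restrictForm B W)) = r ∧
        finrank F W = r + 2 * s} : ℚ) =
      (Fintype.card F : ℚ) ^ (2 * s * l) * qP (Fintype.card F : ℚ) (r + s + l) /
        (qG (Fintype.card F : ℚ) r * (qP (Fintype.card F : ℚ) s * qP (Fintype.card F : ℚ) l)) := by
  set T := {W : Submodule F V // finrank F (LinearMap.ker (restrictForm B W)) = r ∧ finrank F W = r + 2 * s}
  haveI := Fintype.ofFinite T
  have e : Conf B s r ≃ Σ W : T, {c : Conf B s r // spanC c = W.1} :=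
    { toFun := fun c => ⟨⟨spanC c, (spanC_rank hA c).2, (spanC_rank hA c).1⟩, c, rfl⟩
      invFun := fun x => x.2.1
      left_inv := fun c => rfl
      right_inv := fun x => by
        obtain ⟨⟨W, hW⟩, c, hc⟩ := x
        simp only at hc
        subst hc
        rfl }
  have h1 := card_conf_value hA hN hn
  rw [Nat.card_congr e, Nat.card_sigma, Nat.cast_sum] at h1
  have hconst : ∀ W : T, (Nat.card {c : Conf B s r // spanC c = W.1} : ℚ) =
      (Fintype.card F : ℚ) ^ (2 * r * s + s * s + r.choose 2) * (qP (Fintype.card F : ℚ) s * qG (Fintype.card F : ℚ) r) := by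
    intro W
    rw [card_conf_fiber hA W.2.1 W.2.2, Nat.cast_mul,
      card_fam_value (restrictForm_isAlt hA W.1) (l := 0) W.2.1 (by simpa using W.2.2),
      card_li (F := F) (l := 0) (show finrank F (LinearMap.ker (restrictForm B W.1)) = r + 0 by rw [W.2.1, add_zero])]
    simp only [qP_zero, qG_zero, add_zero, mul_zero, div_one, pow_add]
    ring
  rw [Finset.sum_congr rfl fun W _ => hconst W, Finset.sum_const, Finset.card_univ, nsmul_eq_mul,
    ← Nat.card_eq_fintype_card] at h1
  have hq := one_lt_card_q (F := F)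
  have g1 := qP_ne hq s
  have g2 := qG_ne hq r
  have g3 := qP_ne hq l
  have q0 : (Fintype.card F : ℚ) ≠ 0 := (zero_lt_one.trans hq).ne'
  rw [show s * s + 2 * s * (r + l) + r.choose 2 = (2 * r * s + s * s + r.choose 2) + 2 * s * l by ring,
    pow_add (Fintype.card F : ℚ) (2 * r * s + s * s + r.choose 2) (2 * s * l)] at h1
  have q1 := pow_ne_zero (2 * r * s + s * s + r.choose 2) q0
  generalize hX : (Fintype.card F : ℚ) ^ (2 * r * s + s * s + r.choose 2) = X at h1 q1
  field_simp at h1 ⊢
  linear_combination h1

theorem exp_identity (r s l : ℕ) :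
    (r + 2 * s).choose 2 + 2 * s * l + (fixExp (r + l) r + 2 * l * l) =
      r * r + 2 * r * (s + l) + innerExp (s, l) := by
  have hc : ∀ d : ℕ, 2 * d.choose 2 + d = d * d := by
    intro d
    induction d with
    | zero => simp
    | succ d ih =>
      rw [Nat.choose_succ_succ' d 1, Nat.choose_one_right]
      linarith
  have h1 := hc (r + 2 * s)
  have h2 := fixExp_eq r (r + l) (by omega)
  have h3 := innerExp_add (s, l)
  simp only at h3
  nlinarith [h1, h2, h3]

theorem count : ∀ n : ℕ, Count.{v} F n := by
  intro n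
  induction n using Nat.strong_induction_on with
  | _ n ih =>
  intro V _ _ _ B hA hN hn
  classical
  have : Finite V := Module.finite_of_finite F
  set q : ℚ := (Fintype.card F : ℚ) with hq'
  have hq : 1 < q := one_lt_card_q
  by_cases hn0 : n = 0
  · subst hn0
    haveI : Subsingleton V := Module.finrank_zero_iff.1 (by simpa using hn)
    haveI : Unique {g : isomGroup B // IsUni g.1} :=
      { default := ⟨1, 1, Subsingleton.elim _ _⟩
        uniq := fun a => Subtype.ext (Subtype.ext (LinearEquiv.ext fun x => Subsingleton.elim _ _)) }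
    simp
  obtain ⟨m, rfl⟩ := Nat.exists_eq_succ_of_ne_zero hn0
  haveI : Nontrivial V := Module.nontrivial_of_finrank_pos (R := F) (by omega)
  haveI := Fintype.ofFinite (isomGroup B)
  haveI := Fintype.ofFinite (Submodule F V)
  -- every unipotent element contributes zero
  set w : Submodule F V → ℚ := fun W => weight q (finrank F W) *
    (Nat.card {g : isomGroup B // IsUni g.1 ∧ W ≤ fixSpace g.1} : ℚ) with hw
  have hzero : ∑ W, w W = 0 := by
    simp only [hw, Nat.card_eq_fintype_card, Fintype.card_subtype, Finset.card_filter, Nat.cast_sum,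
      Finset.mul_sum]
    rw [Finset.sum_comm]
    refine Finset.sum_eq_zero fun g _ => ?_
    by_cases hg : IsUni g.1
    · haveI := Fintype.ofFinite (Submodule F (fixSpace g.1))
      simp only [hg, true_and, Nat.cast_ite, Nat.cast_one, Nat.cast_zero, mul_ite, mul_one, mul_zero]
      rw [← Finset.sum_filter, Finset.sum_subtype (univ.filter fun W => W ≤ fixSpace g.1)
        (p := fun W => W ≤ fixSpace g.1) (fun W => by simp) (fun W => weight q (finrank F W))]
      rw [← sum_weight (F := F) (K := fixSpace g.1) (fixSpace_ne_bot hg)]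
      exact (Fintype.sum_equiv (Submodule.mapIic (fixSpace g.1)).toEquiv _ _ fun W => by
        congr 1
        exact (Submodule.equivMapOfInjective (fixSpace g.1).subtype (fixSpace g.1).injective_subtype W).finrank_eq).symm
    · simp [hg]
  -- sort by type
  let ty : Submodule F V → Σ _ : ℕ × ℕ, ℕ × ℕ := fun W =>
    let r := finrank F (LinearMap.ker (restrictForm B W))
    let s := (finrank F W - r) / 2
    ⟨(r, m + 1 - r), (s, m + 1 - r - s)⟩
  have hty : ∀ W : Submodule F V, ∃ s, finrank F W = finrank F (LinearMap.ker (restrictForm B W)) + 2 * s ∧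
      finrank F (LinearMap.ker (restrictForm B W)) + s ≤ m + 1 := by
    intro W
    obtain ⟨s, hs⟩ := exists_rank _ (restrictForm_isAlt hA W) rfl
    obtain ⟨c, -⟩ := exists_conf hA (W := W) rfl hs
    exact ⟨s, hs, le_of_conf hA hN hn c⟩
  rw [← sum_fiberwise_of_maps_to (s := univ) (t := (antidiagonal (m + 1)).sigma fun p => antidiagonal p.2)
    (g := ty) (fun W _ => by
      obtain ⟨s, hs, hle⟩ := hty W
      simp only [ty, Finset.mem_sigma, HasAntidiagonal.mem_antidiagonal]
      omega)] at hzero
  have key : ∀ x ∈ (antidiagonal (m + 1)).sigma (fun p => antidiagonal p.2),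
      ∑ W ∈ univ.filter (fun W => ty W = x), w W =
      qP q (m + 1) * ((-1 : ℚ) ^ x.1.1 * q ^ (x.1.1 * x.1.1 + 2 * x.1.1 * x.1.2 + innerExp x.2) /
          (qG q x.1.1 * (qP q x.2.1 * qP q x.2.2))) +
        if x = ⟨(0, m + 1), (0, m + 1)⟩ then
          ((Nat.card {g : isomGroup B // IsUni g.1} : ℚ) - q ^ (2 * (m + 1) * (m + 1))) else 0 := by
    rintro ⟨⟨r, k⟩, ⟨s, l⟩⟩ hx
    simp only [Finset.mem_sigma, HasAntidiagonal.mem_antidiagonal] at hx
    obtain ⟨hrk, hsl⟩ := hx
    subst hsl
    have hfilter : univ.filter (fun W => ty W = ⟨(r, s + l), (s, l)⟩) =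
        univ.filter (fun W : Submodule F V => finrank F (LinearMap.ker (restrictForm B W)) = r ∧
          finrank F W = r + 2 * s) := by
      refine filter_congr fun W _ => ?_
      obtain ⟨s', hs', hle⟩ := hty W
      simp only [ty, Sigma.mk.injEq, Prod.mk.injEq, heq_eq_eq]
      omega
    simp only
    have hn' : finrank F V = 2 * (r + s + l) := by omega
    rw [hfilter]
    have hsplit : (r = 0 ∧ s = 0) ∨ l < m + 1 := by omega
    rcases hsplit with ⟨hr0, hs0⟩ | hl
    · subst hr0 hs0
      obtain rfl : l = m + 1 := by omega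
      rw [if_pos (by simp), Finset.sum_eq_single ⊥]
      · simp only [hw, weight, finrank_bot, innerExp, qG_zero, qP_zero]
        rw [Nat.card_congr (Equiv.subtypeEquivRight fun g => and_iff_left bot_le)]
        have := qP_ne hq (m + 1)
        field_simp
        simp
      · intro W hW hne
        exact absurd (Submodule.finrank_eq_zero.1 (by simpa using (mem_filter.1 hW).2.2)) hne
      · intro h
        exact absurd (mem_filter.2 ⟨mem_univ _, by
          refine ⟨Nat.le_zero.1 ?_, by simp⟩
          exact (Submodule.finrank_le _).trans (by simp)⟩) h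
    · rw [if_neg (by simp only [Sigma.mk.injEq, Prod.mk.injEq, heq_eq_eq]; omega), add_zero]
      have hval : ∀ W ∈ univ.filter (fun W : Submodule F V =>
          finrank F (LinearMap.ker (restrictForm B W)) = r ∧ finrank F W = r + 2 * s),
          w W = (-1 : ℚ) ^ r * q ^ ((r + 2 * s).choose 2 + (fixExp (r + l) r + 2 * l * l)) := by
        intro W hW
        obtain ⟨h1, h2⟩ := (mem_filter.1 hW).2
        simp only [hw, weight, fixers hA hN hn (show r + s + l = m + 1 by omega) (ih l hl) h1 h2, h2, hq',
          Nat.cast_pow, Nat.cast_mul, pow_add, pow_mul, neg_one_sq, one_pow, mul_one]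
        ring
      rw [sum_congr rfl hval, sum_const, nsmul_eq_mul, ← Fintype.card_subtype, ← Nat.card_eq_fintype_card,
        count_type hA hN hn', ← hq', ← exp_identity r s l, show r + s + l = m + 1 by omega]
      simp only [pow_add]
      ring
  rw [sum_congr rfl key, sum_add_distrib, ← mul_sum, Finset.sum_sigma, double_sum_eq_zero hq, mul_zero, zero_add,
    Finset.sum_ite_eq', if_pos (by simp [Finset.mem_sigma]), sub_eq_zero, hq'] at hzero
  exact_mod_cast hzero

end CfsgLib.Classical.SpUniCount
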