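import Mathlib

/-!
# Two `q`-binomial identities used to count the unipotent elements of the symplectic groups
-/

set_option autoImplicit false

open Finset

namespace CfsgLib.Classical.SpUniCount

/-- `∏_{i ≤ n} (q^i - 1)`. -/
def qG (q : ℚ) (n : ℕ) : ℚ := ∏ i ∈ range n, (q ^ (i + 1) - 1)

/-- `∏_{i ≤ n} (q^{2i} - 1)`. -/
def qP (q : ℚ) (n : ℕ) : ℚ := ∏ i ∈ range n, (q ^ (2 * (i + 1)) - 1)

variable {q : ℚ} (hq : 1 < q)
include hq

theorem pow_sub_ne {k : ℕ} (hk : k ≠ 0) : q ^ k - 1 ≠ 0 :=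
  sub_ne_zero.2 (one_lt_pow₀ hq hk).ne'

theorem qG_ne (n : ℕ) : qG q n ≠ 0 := prod_ne_zero_iff.2 fun i _ => pow_sub_ne hq (by omega)

theorem qP_ne (n : ℕ) : qP q n ≠ 0 := prod_ne_zero_iff.2 fun i _ => pow_sub_ne hq (by omega)

omit hq in
theorem qG_succ (n : ℕ) : qG q (n + 1) = qG q n * (q ^ (n + 1) - 1) := prod_range_succ _ n

omit hq in
theorem qP_succ (n : ℕ) : qP q (n + 1) = qP q n * (q ^ (2 * (n + 1)) - 1) := prod_range_succ _ n

omit hq in
theorem qG_zero : qG q 0 = 1 := prod_range_zero _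

omit hq in
theorem qP_zero : qP q 0 = 1 := prod_range_zero _

/-- The alternating `q`-binomial sum vanishes. -/
theorem alt_sum_eq_zero (n : ℕ) :
    ∑ p ∈ antidiagonal (n + 1), (-1 : ℚ) ^ p.1 * q ^ (p.2.choose 2) / (qG q p.1 * qG q p.2) = 0 := by
  set T : ℕ × ℕ → ℚ := fun p => (-1 : ℚ) ^ p.1 * q ^ (p.2.choose 2) / (qG q p.1 * qG q p.2)
  have h0 : (∑ p ∈ antidiagonal (n + 1), T p) * (q ^ (n + 1) - 1) = 0 := by
    rw [sum_mul]
    have e : ∀ p ∈ antidiagonal (n + 1), T p * (q ^ (n + 1) - 1) =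
        T p * (q ^ p.2 * (q ^ p.1 - 1)) + T p * (q ^ p.2 - 1) := by
      intro p hp
      rw [← mem_antidiagonal.1 hp, pow_add]
      ring
    rw [sum_congr rfl e, sum_add_distrib, Nat.sum_antidiagonal_succ, Nat.sum_antidiagonal_succ']
    simp only [pow_zero, sub_self, mul_zero, zero_add, ← sum_add_distrib]
    refine sum_eq_zero fun p _ => ?_
    have g1 := pow_sub_ne hq (k := p.1 + 1) (by omega)
    have g2 := pow_sub_ne hq (k := p.2 + 1) (by omega)
    have := qG_ne hq p.1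
    have := qG_ne hq p.2
    simp only [T, qG_succ, pow_succ (-1 : ℚ)]
    rw [Nat.choose_succ_succ' p.2 1, Nat.choose_one_right, pow_add q p.2 (p.2.choose 2)]
    generalize q ^ (p.1 + 1) - 1 = x at g1 ⊢
    generalize q ^ (p.2 + 1) - 1 = y at g2 ⊢
    field_simp
    ring
  exact (mul_eq_zero.1 h0).resolve_right (pow_sub_ne hq (by omega))

/-- The exponent of the inner sum. -/
def innerExp (p : ℕ × ℕ) : ℕ := p.1 * (2 * p.1 - 1) + 2 * p.2 * p.2 + 2 * p.1 * p.2

omit hq in
theorem innerExp_add (p : ℕ × ℕ) :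
    innerExp p + p.1 = 2 * p.1 * p.1 + 2 * p.2 * p.2 + 2 * p.1 * p.2 := by
  obtain ⟨s, l⟩ := p
  unfold innerExp
  rcases Nat.eq_zero_or_pos s with rfl | hs
  · simp
  · have h : s * (2 * s - 1) + s = 2 * s * s := by
      rw [← Nat.mul_succ, show Nat.succ (2 * s - 1) = 2 * s by omega]
      ring
    show s * (2 * s - 1) + 2 * l * l + 2 * s * l + s = 2 * s * s + 2 * l * l + 2 * s * l
    omega

/-- The inner sum in closed form. -/
theorem inner_sum : ∀ k : ℕ,
    ∑ p ∈ antidiagonal k, q ^ innerExp p / (qP q p.1 * qP q p.2) = q ^ (k * k + k.choose 2) / qG q k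
  | 0 => by simp [innerExp, qP, qG]
  | n + 1 => by
    set T : ℕ × ℕ → ℚ := fun p => q ^ innerExp p / (qP q p.1 * qP q p.2)
    have hswap : ∑ p ∈ antidiagonal (n + 1), T p = ∑ p ∈ antidiagonal (n + 1), T p.swap :=
      (Nat.sum_antidiagonal_swap (f := T)).symm
    have h : (∑ p ∈ antidiagonal (n + 1), T p) * (q ^ (n + 1) - 1) =
        q ^ (3 * n + 1) * ∑ p ∈ antidiagonal n, T p := by
      rw [mul_sub, mul_one]
      nth_rewrite 2 [hswap]
      rw [sum_mul, ← sum_sub_distrib]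
      have e : ∀ p ∈ antidiagonal (n + 1), T p * q ^ (n + 1) - T p.swap =
          q ^ innerExp p.swap * (q ^ (2 * p.2) - 1) / (qP q p.1 * qP q p.2) := by
        intro p hp
        have he : innerExp p + (n + 1) = innerExp p.swap + 2 * p.2 := by
          have h1 := innerExp_add p
          have h2 := innerExp_add p.swap
          have h3 := mem_antidiagonal.1 hp
          rw [Prod.fst_swap, Prod.snd_swap, show 2 * p.2 * p.1 = 2 * p.1 * p.2 by ring] at h2
          omega
        have e2 : q ^ innerExp p * q ^ (n + 1) = q ^ innerExp p.swap * q ^ (2 * p.2) := by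
          rw [← pow_add, ← pow_add, he]
        simp only [T, Prod.fst_swap, Prod.snd_swap]
        rw [mul_comm (qP q p.2), div_mul_eq_mul_div, e2, ← sub_div, mul_sub, mul_one]
      rw [sum_congr rfl e, Nat.sum_antidiagonal_succ', mul_sum]
      simp only [mul_zero, pow_zero, sub_self, zero_div, zero_add]
      refine sum_congr rfl fun p hp => ?_
      have he : innerExp (p.2 + 1, p.1) = innerExp p + (3 * n + 1) := by
        have h1 := innerExp_add p
        have h2 := innerExp_add (p.2 + 1, p.1)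
        have h3 := mem_antidiagonal.1 hp
        simp only at h2
        rw [← h3]
        nlinarith [h1, h2]
      have g := pow_sub_ne hq (k := 2 * (p.2 + 1)) (by omega)
      have := qP_ne hq p.1
      have := qP_ne hq p.2
      simp only [T, Prod.swap_prod_mk, qP_succ, he, pow_add q (innerExp p)]
      field_simp
    have ih := inner_sum n
    rw [ih] at h
    have hn := qG_ne hq n
    have g := pow_sub_ne hq (k := n + 1) (by omega)
    apply mul_right_cancel₀ g
    rw [h, qG_succ, Nat.choose_succ_succ' n 1, Nat.choose_one_right,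
      show (n + 1) * (n + 1) + (n + n.choose 2) = (3 * n + 1) + (n * n + n.choose 2) by ring, pow_add q (3 * n + 1)]
    field_simp

/-- The identity behind the count of the unipotent elements. -/
theorem double_sum_eq_zero (n : ℕ) :
    ∑ p ∈ antidiagonal (n + 1), ∑ t ∈ antidiagonal p.2,
      (-1 : ℚ) ^ p.1 * q ^ (p.1 * p.1 + 2 * p.1 * p.2 + innerExp t) /
        (qG q p.1 * (qP q t.1 * qP q t.2)) = 0 := by
  have e : ∀ p ∈ antidiagonal (n + 1), ∑ t ∈ antidiagonal p.2,
      (-1 : ℚ) ^ p.1 * q ^ (p.1 * p.1 + 2 * p.1 * p.2 + innerExp t) / (qG q p.1 * (qP q t.1 * qP q t.2)) =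
      q ^ ((n + 1) * (n + 1)) * ((-1 : ℚ) ^ p.1 * q ^ (p.2.choose 2) / (qG q p.1 * qG q p.2)) := by
    intro p hp
    have h1 : ∀ t : ℕ × ℕ, (-1 : ℚ) ^ p.1 * q ^ (p.1 * p.1 + 2 * p.1 * p.2 + innerExp t) /
        (qG q p.1 * (qP q t.1 * qP q t.2)) =
        (-1 : ℚ) ^ p.1 * q ^ (p.1 * p.1 + 2 * p.1 * p.2) / qG q p.1 * (q ^ innerExp t / (qP q t.1 * qP q t.2)) := by
      intro t
      rw [pow_add, div_mul_div_comm, mul_assoc ((-1 : ℚ) ^ p.1)]
    simp only [h1, ← mul_sum, inner_sum hq]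
    rw [← mem_antidiagonal.1 hp,
      show (p.1 + p.2) * (p.1 + p.2) = (p.1 * p.1 + 2 * p.1 * p.2) + p.2 * p.2 by ring]
    simp only [pow_add]
    ring
  rw [sum_congr rfl e, ← mul_sum, alt_sum_eq_zero hq, mul_zero]

end CfsgLib.Classical.SpUniCount
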