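import Cfsg.Agent.Lib.Classical.SympCount

/-!
# Symplectic families and isotropic tuples in alternating spaces
-/

set_option autoImplicit false
set_option linter.unusedSectionVars false
set_option linter.style.haveILetI false
set_option linter.unusedVariables false

open Module

namespace CfsgLib.Classical.SpUniCount

universe v
variable {F : Type*} [Field F] [Fintype F] {V : Type v} [AddCommGroup V] [Module F V]
  [FiniteDimensional F V] {B : V →ₗ[F] V →ₗ[F] F}

/-- Symplectic families of length `s`. -/
def Fam (B : V →ₗ[F] V →ₗ[F] F) (s : ℕ) : Type _ := {b : Fin s ⊕ Fin s → V // IsSympFamily B b}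

instance finite_fam (s : ℕ) : Finite (Fam B s) :=
  have : Finite V := Module.finite_of_finite F
  Subtype.finite

/-- Independent isotropic tuples of length `r`. -/
def Iso (B : V →ₗ[F] V →ₗ[F] F) (r : ℕ) : Type _ :=
  {e : Fin r → V // LinearIndependent F e ∧ ∀ i j, B (e i) (e j) = 0}

instance finite_iso (r : ℕ) : Finite (Iso B r) :=
  have : Finite V := Module.finite_of_finite F
  Subtype.finite

theorem nondegOn_fam (hA : B.IsAlt) {s : ℕ} {b : Fin s ⊕ Fin s → V} (hb : IsSympFamily B b) :
    NondegOn B (Submodule.span F (Set.range b)) := by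
  rw [nondegOn_iff]
  intro x hx h
  obtain ⟨g, rfl⟩ := (Submodule.mem_span_range_iff_exists_fun F).1 hx
  refine Finset.sum_eq_zero fun i _ => ?_
  suffices g i = 0 by rw [this, zero_smul]
  rcases i with i | i
  · have h' := h (b (.inr i)) (Submodule.subset_span ⟨_, rfl⟩)
    have h'' := hA.isRefl _ _ h'
    simpa [Fintype.sum_sum_type, LinearMap.sum_apply, hb.1, hb.2.2, Finset.sum_ite_eq'] using h''
  · have h' := h (b (.inl i)) (Submodule.subset_span ⟨_, rfl⟩)
    simpa [Fintype.sum_sum_type, hb.1, hb.2.1, Finset.sum_ite_eq] using h'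

theorem finrank_fam (hA : B.IsAlt) {s : ℕ} {b : Fin s ⊕ Fin s → V} (hb : IsSympFamily B b) :
    finrank F (perp B (Submodule.span F (Set.range b))) + 2 * s = finrank F V := by
  rw [← (nondegOn_fam hA hb).finrank_perp, finrank_span_eq_card (hb.linearIndependent hA)]
  simp
  ring

theorem finrank_ker_perp (hA : B.IsAlt) {W : Submodule F V} (h : NondegOn B W) :
    finrank F (LinearMap.ker (restrictForm B (perp B W))) = finrank F (LinearMap.ker B) := by
  have hle : LinearMap.ker B ≤ perp B W := fun x hx => mem_perp.2 fun w _ => hA.isRefl _ _ (by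
    rw [LinearMap.mem_ker.1 hx]; rfl)
  have he : (LinearMap.ker (restrictForm B (perp B W))).map (perp B W).subtype = LinearMap.ker B := by
    refine le_antisymm ?_ (fun x hx => ⟨⟨x, hle hx⟩, LinearMap.ext fun y => by
      show B x (y : V) = 0
      rw [LinearMap.mem_ker.1 hx]; rfl, rfl⟩)
    rintro _ ⟨x, hx, rfl⟩
    refine LinearMap.mem_ker.2 (LinearMap.ext fun y => ?_)
    obtain ⟨w, u, rfl⟩ := exists_add_eq h.isCompl y
    rw [map_add, show B ((perp B W).subtype x) (u : V) = 0 from congrArg (fun f : perp B W →ₗ[F] F => f u)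
      (LinearMap.mem_ker.1 hx), show B ((perp B W).subtype x) (w : V) = 0 from
      hA.isRefl _ _ (mem_perp.1 x.2 _ w.2), add_zero]
    rfl
  rw [← he, LinearEquiv.finrank_eq (Submodule.equivMapOfInjective _ (perp B W).injective_subtype _)]

theorem card_pairs (hA : B.IsAlt) :
    Nat.card {p : V × V // B p.1 p.2 = 1} =
      (Fintype.card F ^ finrank F V - Fintype.card F ^ finrank F (LinearMap.ker B)) *
        Fintype.card F ^ (finrank F V - 1) := by
  classical
  have : Finite V := Module.finite_of_finite F
  haveI := Fintype.ofFinite V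
  have e : {p : V × V // B p.1 p.2 = 1} ≃ Σ u : {u : V // u ∉ LinearMap.ker B}, {v : V // B u.1 v = 1} :=
    { toFun := fun p => ⟨⟨p.1.1, fun h => by simpa [LinearMap.mem_ker.1 h] using p.2⟩, ⟨p.1.2, p.2⟩⟩
      invFun := fun s => ⟨(s.1.1, s.2.1), s.2.2⟩
      left_inv := fun _ => rfl
      right_inv := fun _ => rfl }
  rw [Nat.card_congr e, Nat.card_sigma]
  rw [Finset.sum_congr rfl fun (u : {u : V // u ∉ LinearMap.ker B}) _ =>
    card_linearMap_fibre (B u.1) u.2 1, Finset.sum_const, smul_eq_mul, Finset.card_univ]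
  congr 1
  rw [Fintype.card_subtype_compl, ← Module.card_eq_pow_finrank (K := F) (V := V),
    ← Module.card_eq_pow_finrank (K := F) (V := LinearMap.ker B)]

/-- The first pair and the rest of a family. -/
noncomputable def famSucc (hA : B.IsAlt) (s : ℕ) : Fam B (s + 1) ≃
    Σ p : {p : V × V // B p.1 p.2 = 1},
      Fam (restrictForm B (perp B (Submodule.span F ({p.1.1, p.1.2} : Set V)))) s where
  toFun b := ⟨⟨(b.1 (.inl 0), b.1 (.inr 0)), by simpa using b.2.1 0 0⟩,
    ⟨fun i => ⟨b.1 (Sum.map Fin.succ Fin.succ i), by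
      rw [mem_perp_span]
      rintro w (rfl | rfl) <;> rcases i with i | i <;> simp only [Sum.map_inl, Sum.map_inr]
      · exact b.2.2.1 _ _
      · simpa [(Fin.succ_ne_zero i).symm] using b.2.1 0 i.succ
      · exact hA.isRefl _ _ (by simpa [Fin.succ_ne_zero i] using b.2.1 i.succ 0)
      · exact b.2.2.2 _ _⟩,
    ⟨fun i j => by simpa [Fin.succ_inj] using b.2.1 i.succ j.succ, fun i j => b.2.2.1 i.succ j.succ,
      fun i j => b.2.2.2 i.succ j.succ⟩⟩⟩
  invFun x := ⟨Sum.elim (Fin.cons x.1.1.1 fun i => (x.2.1 (.inl i) : V))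
      (Fin.cons x.1.1.2 fun i => (x.2.1 (.inr i) : V)), by
    obtain ⟨⟨⟨u, v⟩, huv⟩, b, h1, h2, h3⟩ := x
    simp only [restrictForm_apply] at h1 h2 h3
    have hu' : ∀ x : perp B (Submodule.span F ({u, v} : Set V)), B u (x : V) = 0 := fun x =>
      mem_perp.1 x.2 u (Submodule.subset_span (Set.mem_insert _ _))
    have hv' : ∀ x : perp B (Submodule.span F ({u, v} : Set V)), B v (x : V) = 0 := fun x =>
      mem_perp.1 x.2 v (Submodule.subset_span (Set.mem_insert_of_mem _ rfl))
    simp only at huv
    have hu'' : ∀ x : perp B (Submodule.span F ({u, v} : Set V)), B (x : V) u = 0 := fun x =>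
      hA.isRefl _ _ (hu' x)
    have hv'' : ∀ x : perp B (Submodule.span F ({u, v} : Set V)), B (x : V) v = 0 := fun x =>
      hA.isRefl _ _ (hv' x)
    refine ⟨?_, ?_, ?_⟩
    · intro i j
      cases i using Fin.cases <;> cases j using Fin.cases <;>
        simp [huv, hu', hv'', h1, Fin.succ_ne_zero, (Fin.succ_ne_zero _).symm]
    · intro i j
      cases i using Fin.cases <;> cases j using Fin.cases <;> simp [hA u, hu', hu'', h2]
    · intro i j
      cases i using Fin.cases <;> cases j using Fin.cases <;> simp [hA v, hv', hv'', h3]⟩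
  left_inv b := Subtype.ext (funext fun i => by
    rcases i with i | i <;> cases i using Fin.cases <;> rfl)
  right_inv x := by
    obtain ⟨⟨⟨u, v⟩, huv⟩, b, hb⟩ := x
    refine Sigma.ext rfl (heq_of_eq (Subtype.ext (funext fun i => Subtype.ext ?_)))
    rcases i with i | i <;> rfl

theorem card_fam : ∀ (s : ℕ) {V : Type v} [AddCommGroup V] [Module F V] [FiniteDimensional F V]
    {B : V →ₗ[F] V →ₗ[F] F} (_ : B.IsAlt),
    Nat.card (Fam B s) = ∏ j ∈ Finset.range s,
      (Fintype.card F ^ (finrank F V - 2 * j) - Fintype.card F ^ finrank F (LinearMap.ker B)) *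
        Fintype.card F ^ (finrank F V - 2 * j - 1) := by
  intro s
  induction s with
  | zero =>
    intro V _ _ _ B hA
    haveI : Unique (Fam B 0) :=
      { default := ⟨fun i => i.elim Fin.elim0 Fin.elim0, fun i => i.elim0, fun i => i.elim0, fun i => i.elim0⟩
        uniq := fun b => Subtype.ext (funext fun i => i.elim Fin.elim0 Fin.elim0) }
    simp
  | succ s ih =>
    intro V _ _ _ B hA
    classical
    have : Finite V := Module.finite_of_finite F
    haveI := Fintype.ofFinite {p : V × V // B p.1 p.2 = 1}
    rw [Nat.card_congr (famSucc hA s), Nat.card_sigma, Finset.prod_range_succ']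
    have h : ∀ p : {p : V × V // B p.1 p.2 = 1},
        Nat.card (Fam (restrictForm B (perp B (Submodule.span F ({p.1.1, p.1.2} : Set V)))) s) =
        ∏ j ∈ Finset.range s, (Fintype.card F ^ (finrank F V - 2 * (j + 1)) -
          Fintype.card F ^ finrank F (LinearMap.ker B)) * Fintype.card F ^ (finrank F V - 2 * (j + 1) - 1) := by
      intro p
      rw [ih (restrictForm_isAlt hA _), finrank_ker_perp hA (nondegOn_pair hA p.2)]
      have hd := finrank_perp_pair_lt hA p.2
      refine Finset.prod_congr rfl fun j _ => ?_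
      rw [show finrank F (perp B (Submodule.span F ({p.1.1, p.1.2} : Set V))) - 2 * j =
        finrank F V - 2 * (j + 1) by omega]
    rw [Finset.sum_congr rfl fun p _ => h p, Finset.sum_const, Finset.card_univ, smul_eq_mul,
      ← Nat.card_eq_fintype_card, card_pairs hA]
    simp only [mul_zero, Nat.sub_zero]
    ring

theorem finrank_perp_nondeg (hN : B.Nondegenerate) (U : Submodule F V) :
    finrank F (perp B U) = finrank F V - finrank F U := by
  have h : perp B U = LinearMap.BilinForm.orthogonal B U := by
    ext x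
    exact mem_perp
  rw [h]
  exact LinearMap.BilinForm.finrank_orthogonal hN U

/-- Adding one vector to an isotropic tuple. -/
noncomputable def isoSucc (hA : B.IsAlt) (r : ℕ) : Iso B (r + 1) ≃
    Σ e : Iso B r, {x : V // x ∈ perp B (Submodule.span F (Set.range e.1)) ∧
      x ∉ Submodule.span F (Set.range e.1)} where
  toFun e := ⟨⟨Fin.init e.1, e.2.1.comp _ (Fin.castSucc_injective _), fun i j => e.2.2 _ _⟩,
    ⟨e.1 (Fin.last r), mem_perp_span.2 (by rintro _ ⟨i, rfl⟩; exact e.2.2 _ _), by
      have h := e.2.1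
      rw [← Fin.snoc_init_self e.1, linearIndependent_finSnoc] at h
      exact h.2⟩⟩
  invFun x := ⟨Fin.snoc x.1.1 x.2.1, linearIndependent_finSnoc.2 ⟨x.1.2.1, x.2.2.2⟩, by
    intro i j
    have h : ∀ i, B (x.1.1 i) x.2.1 = 0 := fun i => mem_perp_span.1 x.2.2.1 _ ⟨i, rfl⟩
    refine Fin.lastCases ?_ (fun i => ?_) i <;> refine Fin.lastCases ?_ (fun j => ?_) j <;>
      simp only [Fin.snoc_last, Fin.snoc_castSucc]
    · exact hA _
    · exact hA.isRefl _ _ (h j)
    · exact h i
    · exact x.1.2.2 i j⟩
  left_inv e := Subtype.ext (Fin.snoc_init_self e.1)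
  right_inv x := by
    obtain ⟨⟨e, he⟩, ⟨y, hy⟩⟩ := x
    refine Sigma.subtype_ext (Subtype.ext ?_) ?_
    · exact Fin.init_snoc (α := fun _ => V) (p := e) (x := y)
    · exact Fin.snoc_last (α := fun _ => V) (p := e) (x := y)

theorem card_iso (hA : B.IsAlt) (hN : B.Nondegenerate) : ∀ r : ℕ,
    Nat.card (Iso B r) = ∏ i ∈ Finset.range r,
      (Fintype.card F ^ (finrank F V - i) - Fintype.card F ^ i)
  | 0 => by
    haveI : Unique (Iso B 0) :=
      { default := ⟨Fin.elim0, linearIndependent_empty_type, fun i => i.elim0⟩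
        uniq := fun e => Subtype.ext (funext fun i => i.elim0) }
    simp
  | r + 1 => by
    classical
    have : Finite V := Module.finite_of_finite F
    haveI := Fintype.ofFinite (Iso B r)
    rw [Nat.card_congr (isoSucc hA r), Nat.card_sigma, Finset.prod_range_succ]
    have h : ∀ e : Iso B r, Nat.card {x : V // x ∈ perp B (Submodule.span F (Set.range e.1)) ∧
        x ∉ Submodule.span F (Set.range e.1)} =
        Fintype.card F ^ (finrank F V - r) - Fintype.card F ^ r := by
      intro e
      have hle : Submodule.span F (Set.range e.1) ≤ perp B (Submodule.span F (Set.range e.1)) := by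
        rw [Submodule.span_le]
        rintro _ ⟨j, rfl⟩
        exact mem_perp_span.2 (by rintro _ ⟨i, rfl⟩; exact e.2.2 i j)
      have hk : finrank F (Submodule.span F (Set.range e.1)) = r := by
        rw [finrank_span_eq_card e.2.1, Fintype.card_fin]
      haveI := Fintype.ofFinite V
      rw [Nat.card_congr (Equiv.subtypeSubtypeEquivSubtypeInter _ _).symm, Nat.card_eq_fintype_card,
        Fintype.card_subtype_compl]
      congr 1
      · refine (Module.card_eq_pow_finrank (K := F)
          (V := perp B (Submodule.span F (Set.range e.1)))).trans ?_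
        rw [finrank_perp_nondeg hN, hk]
      · rw [Fintype.card_congr (Equiv.subtypeSubtypeEquivSubtype
          (p := fun x => x ∈ perp B (Submodule.span F (Set.range e.1)))
          (q := fun x => x ∈ Submodule.span F (Set.range e.1)) (fun hx => hle hx))]
        exact (Module.card_eq_pow_finrank (K := F) (V := Submodule.span F (Set.range e.1))).trans (by rw [hk])
    rw [Finset.sum_congr rfl fun e _ => h e, Finset.sum_const, Finset.card_univ, smul_eq_mul,
      ← Nat.card_eq_fintype_card, card_iso hA hN r]

end CfsgLib.Classical.SpUniCount
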