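import Cfsg.Agent.Lib.Classical.SpUnipotentCount.Fixers
import Cfsg.Agent.Lib.Classical.SpUnipotentCount.QIdentity

/-!
# Subspaces of a symplectic space by rank and radical
-/

set_option autoImplicit false
set_option linter.unusedSectionVars false
set_option linter.style.haveILetI false
set_option linter.unusedVariables false
set_option linter.unusedSimpArgs false

open Module Finset

namespace CfsgLib.Classical.SpUniCount

universe v
variable {F : Type*} [Field F] [Fintype F] {V : Type v} [AddCommGroup V] [Module F V]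
  [FiniteDimensional F V] {B : V →ₗ[F] V →ₗ[F] F}

theorem one_lt_card_q : (1 : ℚ) < Fintype.card F := by exact_mod_cast Fintype.one_lt_card

theorem exists_rank : ∀ (d : ℕ) {V : Type v} [AddCommGroup V] [Module F V] [FiniteDimensional F V]
    {B : V →ₗ[F] V →ₗ[F] F} (_ : B.IsAlt) (_ : finrank F V = d),
    ∃ s, d = finrank F (LinearMap.ker B) + 2 * s := by
  intro d
  induction d using Nat.strong_induction_on with
  | _ d ih =>
    intro V _ _ _ B hA hd
    by_cases h0 : B = 0
    · exact ⟨0, by rw [h0, LinearMap.ker_zero, finrank_top, hd, mul_zero, add_zero]⟩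
    obtain ⟨u, w, huw⟩ : ∃ u w, B u w ≠ 0 := by
      by_contra h
      push Not at h
      exact h0 (LinearMap.ext fun x => LinearMap.ext fun y => h x y)
    have huv : B u ((B u w)⁻¹ • w) = 1 := by rw [map_smul, smul_eq_mul, inv_mul_cancel₀ huw]
    have hdim := finrank_perp_pair_lt hA huv
    obtain ⟨s, hs⟩ := ih (finrank F (perp B (Submodule.span F ({u, (B u w)⁻¹ • w} : Set V)))) (by omega)
      (restrictForm_isAlt hA _) rfl
    rw [finrank_ker_perp hA (nondegOn_pair hA huv)] at hs
    exact ⟨s + 1, by omega⟩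

/-- Adapted configurations: a symplectic family and an isotropic tuple perpendicular to it. -/
def Conf (B : V →ₗ[F] V →ₗ[F] F) (s r : ℕ) : Type _ :=
  Σ b : Fam B s, Iso (restrictForm B (perp B (Submodule.span F (Set.range b.1)))) r

instance finite_conf (s r : ℕ) : Finite (Conf B s r) := by unfold Conf; infer_instance

/-- The subspace spanned by a configuration. -/
def spanC {s r : ℕ} (c : Conf B s r) : Submodule F V :=
  Submodule.span F (Set.range c.1.1) ⊔ Submodule.span F (Set.range fun i => (c.2.1 i : V))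

theorem spanC_rank (hA : B.IsAlt) {s r : ℕ} (c : Conf B s r) :
    finrank F (spanC c) = r + 2 * s ∧ finrank F (LinearMap.ker (restrictForm B (spanC c))) = r := by
  set H := Submodule.span F (Set.range c.1.1)
  set E := Submodule.span F (Set.range fun i => (c.2.1 i : V))
  have hH := nondegOn_fam hA c.1.2
  have hEP : E ≤ perp B H := Submodule.span_le.2 (by rintro _ ⟨i, rfl⟩; exact (c.2.1 i).2)
  have hEE : E ≤ perp B E := Submodule.span_le.2 (by
    rintro _ ⟨j, rfl⟩
    exact mem_perp_span.2 (by rintro _ ⟨i, rfl⟩; exact c.2.2.2 i j))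
  have hd : H ⊓ E = ⊥ := eq_bot_iff.2 ((inf_le_inf_left H hEP).trans hH.eq_bot.le)
  have hfE : finrank F E = r := by
    have hl : LinearIndependent F fun i => (c.2.1 i : V) :=
      c.2.2.1.map' (perp B H).subtype (Submodule.ker_subtype _)
    rw [finrank_span_eq_card hl, Fintype.card_fin]
  have hfW : finrank F (spanC c) = r + 2 * s := by
    have h := Submodule.finrank_sup_add_finrank_inf_eq H E
    rw [hd, finrank_bot, add_zero, hfE, finrank_span_eq_card (c.1.2.linearIndependent hA)] at h
    rw [show spanC c = H ⊔ E from rfl, h]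
    simp
    ring
  refine ⟨hfW, ?_⟩
  have he : (LinearMap.ker (restrictForm B (spanC c))).map (spanC c).subtype = E := by
    refine le_antisymm ?_ fun x hx => ?_
    · rintro _ ⟨x, hx, rfl⟩
      obtain ⟨a, ha, b, hb, hab⟩ := Submodule.mem_sup.1 x.2
      have : a = 0 := by
        refine nondegOn_iff.1 hH a ha fun w hw => ?_
        have h1 : B (x : V) w = 0 :=
          congrArg (fun f : spanC c →ₗ[F] F => f ⟨w, Submodule.mem_sup_left hw⟩) (LinearMap.mem_ker.1 hx)
        rw [← hab, map_add, LinearMap.add_apply, hA.isRefl _ _ (mem_perp.1 (hEP hb) w hw), add_zero] at h1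
        exact hA.isRefl _ _ h1
      show (x : V) ∈ E
      rw [← hab, this, zero_add]
      exact hb
    · refine ⟨⟨x, Submodule.mem_sup_right hx⟩, LinearMap.mem_ker.2 (LinearMap.ext fun y => ?_), rfl⟩
      obtain ⟨a, ha, b, hb, hab⟩ := Submodule.mem_sup.1 y.2
      show B x (y : V) = 0
      rw [← hab, map_add, hA.isRefl _ _ (mem_perp.1 (hEP hx) a ha), mem_perp.1 (hEE hb) x hx, add_zero]
  refine Eq.trans ?_ hfE
  rw [← he, LinearEquiv.finrank_eq (Submodule.equivMapOfInjective _ (spanC c).injective_subtype _)]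

/-- The configurations spanning a given subspace. -/
theorem card_conf_fiber (hA : B.IsAlt) {W : Submodule F V} {s r : ℕ}
    (hr : finrank F (LinearMap.ker (restrictForm B W)) = r) (hd : finrank F W = r + 2 * s) :
    Nat.card {c : Conf B s r // spanC c = W} = Nat.card (Fam (restrictForm B W) s) *
      Nat.card {e : Fin r → LinearMap.ker (restrictForm B W) // LinearIndependent F e} := by
  rw [← Nat.card_prod]
  symm
  let mk : Fam (restrictForm B W) s × {e : Fin r → LinearMap.ker (restrictForm B W) // LinearIndependent F e} →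
      Conf B s r := fun p =>
    ⟨⟨fun i => (p.1.1 i : V), ⟨fun i j => by simpa using p.1.2.1 i j, fun i j => by simpa using p.1.2.2.1 i j,
        fun i j => by simpa using p.1.2.2.2 i j⟩⟩,
      ⟨fun i => ⟨((p.2.1 i : W) : V), mem_perp_span.2 (by
          rintro _ ⟨j, rfl⟩
          exact hA.isRefl _ _ (congrArg (fun f : W →ₗ[F] F => f (p.1.1 j)) (LinearMap.mem_ker.1 (p.2.1 i).2)))⟩,
        LinearIndependent.of_comp (perp B _).subtype (by
          exact (p.2.2.map' _ (Submodule.ker_subtype _)).map' W.subtype (Submodule.ker_subtype _)),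
        fun i j => congrArg (fun f : W →ₗ[F] F => f (p.2.1 j : W)) (LinearMap.mem_ker.1 (p.2.1 i).2)⟩⟩
  have hmk : ∀ p, spanC (mk p) = W := by
    intro p
    refine Submodule.eq_of_le_of_finrank_eq ?_ ?_
    · refine sup_le (Submodule.span_le.2 ?_) (Submodule.span_le.2 ?_)
      · rintro _ ⟨i, rfl⟩; exact (p.1.1 i).2
      · rintro _ ⟨i, rfl⟩; exact (p.2.1 i : W).2
    · rw [(spanC_rank hA (mk p)).1, hd]
  refine Nat.card_eq_of_bijective (fun p => ⟨mk p, hmk p⟩) ⟨?_, ?_⟩
  · rintro ⟨b, e⟩ ⟨b', e'⟩ h
    have h0 := congrArg Subtype.val h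
    have h1 : ∀ i, (b.1 i : V) = b'.1 i := fun i => congrArg (fun c : Conf B s r => c.1.1 i) h0
    have h2 : ∀ i, ((e.1 i : W) : V) = (e'.1 i : W) := fun i =>
      congrArg (fun c : Conf B s r => ((c.2.1 i : perp B (Submodule.span F (Set.range c.1.1))) : V)) h0
    exact Prod.ext (Subtype.ext (funext fun i => Subtype.ext (h1 i)))
      (Subtype.ext (funext fun i => Subtype.ext (Subtype.ext (h2 i))))
  · rintro ⟨c, hc⟩
    have hbW : ∀ i, c.1.1 i ∈ W := fun i => hc ▸ Submodule.mem_sup_left (Submodule.subset_span ⟨i, rfl⟩)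
    have heW : ∀ i, (c.2.1 i : V) ∈ W := fun i => hc ▸ Submodule.mem_sup_right (Submodule.subset_span ⟨i, rfl⟩)
    have hker : ∀ i, (⟨_, heW i⟩ : W) ∈ LinearMap.ker (restrictForm B W) := by
      intro i
      refine LinearMap.mem_ker.2 (LinearMap.ext fun y => ?_)
      obtain ⟨a, ha, b, hb, hab⟩ := Submodule.mem_sup.1 (show (y : V) ∈ spanC c from hc ▸ y.2)
      show B (c.2.1 i : V) (y : V) = 0
      rw [← hab, map_add, hA.isRefl _ _ (mem_perp.1 (c.2.1 i).2 a ha), zero_add]
      have : Submodule.span F (Set.range fun j => (c.2.1 j : V)) ≤ LinearMap.ker (B (c.2.1 i : V)) :=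
        Submodule.span_le.2 (by rintro _ ⟨j, rfl⟩; exact c.2.2.2 i j)
      exact this hb
    refine ⟨(⟨fun i => ⟨_, hbW i⟩, ⟨c.1.2.1, c.1.2.2.1, c.1.2.2.2⟩⟩,
      ⟨fun i => ⟨_, hker i⟩, LinearIndependent.of_comp (W.subtype ∘ₗ (LinearMap.ker (restrictForm B W)).subtype)
        (c.2.2.1.map' (perp B _).subtype (Submodule.ker_subtype _))⟩), Subtype.ext ?_⟩
    rfl

section Values

variable {q : ℚ}

theorem fam_value (hq : 1 < q) (r : ℕ) : ∀ s l : ℕ,
    ∏ j ∈ range s, (q ^ (r + 2 * (s + l) - 2 * j) - q ^ r) * q ^ (r + 2 * (s + l) - 2 * j - 1) =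
      q ^ (2 * r * s + s * s + 2 * s * l) * (qP q (s + l) / qP q l)
  | 0, l => by
    have := qP_ne hq l
    simp [this]
  | s + 1, l => by
    rw [prod_range_succ']
    have e : ∀ j, r + 2 * (s + 1 + l) - 2 * (j + 1) = r + 2 * (s + l) - 2 * j := fun j => by omega
    simp only [e]
    rw [fam_value hq r s l, mul_zero, Nat.sub_zero, show s + 1 + l = s + l + 1 by omega, qP_succ,
      show r + 2 * (s + l + 1) - 1 = r + (2 * s + 2 * l + 1) by omega]
    simp only [pow_add, pow_mul, pow_succ]
    ring

theorem iso_value (hq : 1 < q) : ∀ r l : ℕ,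
    ∏ i ∈ range r, (q ^ (2 * (r + l) - i) - q ^ i) = q ^ (r.choose 2) * (qP q (r + l) / qP q l)
  | 0, l => by
    have := qP_ne hq l
    simp [this]
  | r + 1, l => by
    rw [prod_range_succ, show r + 1 + l = r + (l + 1) by omega, iso_value hq r (l + 1), qP_succ,
      show 2 * (r + (l + 1)) - r = r + 2 * (l + 1) by omega, Nat.choose_succ_succ' r 1, Nat.choose_one_right]
    have h1 := qP_ne hq l
    have h2 := pow_sub_ne hq (k := 2 * (l + 1)) (by omega)
    simp only [pow_add q r]
    generalize hx : q ^ (2 * (l + 1)) = x at h2 ⊢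
    field_simp

theorem gl_value (hq : 1 < q) : ∀ k l : ℕ,
    ∏ i ∈ range k, (q ^ (k + l) - q ^ i) = q ^ (k.choose 2) * (qG q (k + l) / qG q l)
  | 0, l => by
    have := qG_ne hq l
    simp [this]
  | k + 1, l => by
    rw [prod_range_succ, show k + 1 + l = k + (l + 1) by omega, gl_value hq k (l + 1), qG_succ,
      Nat.choose_succ_succ' k 1, Nat.choose_one_right]
    have h1 := qG_ne hq l
    have h2 := pow_sub_ne hq (k := l + 1) (by omega)
    simp only [pow_add q k]
    generalize hx : q ^ (l + 1) = x at h2 ⊢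
    field_simp

end Values

theorem card_li {K : Type v} [AddCommGroup K] [Module F K] [FiniteDimensional F K] {k l : ℕ}
    (h : finrank F K = k + l) :
    (Nat.card {e : Fin k → K // LinearIndependent F e} : ℚ) =
      (Fintype.card F : ℚ) ^ (k.choose 2) * (qG (Fintype.card F : ℚ) (k + l) / qG (Fintype.card F : ℚ) l) := by
  have : Finite K := Module.finite_of_finite F
  rw [card_linearIndependent (by omega), h, ← gl_value one_lt_card_q, Nat.cast_prod, Finset.prod_range]
  refine Finset.prod_congr rfl fun i _ => ?_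
  rw [Nat.cast_sub (Nat.pow_le_pow_right Fintype.card_pos (by omega)), Nat.cast_pow, Nat.cast_pow]

theorem card_fam_value (hA : B.IsAlt) {r s l : ℕ} (hr : finrank F (LinearMap.ker B) = r)
    (hd : finrank F V = r + 2 * (s + l)) :
    (Nat.card (Fam B s) : ℚ) = (Fintype.card F : ℚ) ^ (2 * r * s + s * s + 2 * s * l) *
      (qP (Fintype.card F : ℚ) (s + l) / qP (Fintype.card F : ℚ) l) := by
  rw [card_fam s hA, hr, hd, ← fam_value one_lt_card_q, Nat.cast_prod]
  refine Finset.prod_congr rfl fun j hj => ?_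
  have := Finset.mem_range.1 hj
  rw [Nat.cast_mul, Nat.cast_sub (Nat.pow_le_pow_right Fintype.card_pos (by omega))]
  push_cast
  rfl

theorem ker_eq_bot_of_nondeg (hN : B.Nondegenerate) : finrank F (LinearMap.ker B) = 0 := by
  have : LinearMap.ker B = ⊥ := (Submodule.eq_bot_iff _).2 fun x hx => hN.1 x fun y => by
    rw [LinearMap.mem_ker.1 hx]; rfl
  rw [this, finrank_bot]

theorem card_conf_value (hA : B.IsAlt) (hN : B.Nondegenerate) {r s l : ℕ}
    (hd : finrank F V = 2 * (r + s + l)) :
    (Nat.card (Conf B s r) : ℚ) = (Fintype.card F : ℚ) ^ (s * s + 2 * s * (r + l) + r.choose 2) *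
      (qP (Fintype.card F : ℚ) (r + s + l) / qP (Fintype.card F : ℚ) l) := by
  set q : ℚ := (Fintype.card F : ℚ)
  haveI := Fintype.ofFinite (Fam B s)
  rw [show Nat.card (Conf B s r) = Nat.card (Σ b : Fam B s,
    Iso (restrictForm B (perp B (Submodule.span F (Set.range b.1)))) r) from rfl, Nat.card_sigma, Nat.cast_sum]
  have h : ∀ b : Fam B s, (Nat.card (Iso (restrictForm B (perp B (Submodule.span F (Set.range b.1)))) r) : ℚ) =
      q ^ (r.choose 2) * (qP q (r + l) / qP q l) := by
    intro b
    have hdim := finrank_fam hA b.2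
    rw [card_iso (restrictForm_isAlt hA _) (restrictForm_nondegenerate hA.isRefl
      (nondegOn_perp hN.2 (nondegOn_fam hA b.2))) r, ← iso_value one_lt_card_q r l, Nat.cast_prod]
    refine Finset.prod_congr rfl fun i hi => ?_
    have := Finset.mem_range.1 hi
    rw [show finrank F (perp B (Submodule.span F (Set.range b.1))) - i = 2 * (r + l) - i by omega,
      Nat.cast_sub (Nat.pow_le_pow_right Fintype.card_pos (by omega))]
    push_cast
    rfl
  rw [Finset.sum_congr rfl fun b _ => h b, Finset.sum_const, nsmul_eq_mul, Finset.card_univ,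
    ← Nat.card_eq_fintype_card, card_fam_value hA (l := r + l) (ker_eq_bot_of_nondeg hN) (by omega),
    show s + (r + l) = r + s + l by omega]
  have := qP_ne (one_lt_card_q (F := F)) (r + l)
  have := qP_ne (one_lt_card_q (F := F)) l
  field_simp
  ring

end CfsgLib.Classical.SpUniCount
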